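import Mathlib

/-!
# Components of an algebra over a field are geometrically integral after a finite extension
-/

set_option autoImplicit false
set_option backward.isDefEq.respectTransparency false
set_option maxHeartbeats 1000000
set_option synthInstance.maxHeartbeats 100000
universe u

open TensorProduct

namespace Groth.Agent.GenInt

variable (k A : Type u) [Field k] [CommRing A] [Algebra k A] [Algebra.FiniteType k A]

/-- There is a finite subset of the algebraic closure such that over every subextension containing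
it the minimal primes are geometrically prime. -/
theorem exists_finite_defining_components :
    ∃ F : Finset (AlgebraicClosure k), ∀ (E : Type u) [Field E] [Algebra k E]
      [Algebra E (AlgebraicClosure k)] [IsScalarTower k E (AlgebraicClosure k)],
      (F : Set (AlgebraicClosure k)) ⊆ Set.range (algebraMap E (AlgebraicClosure k)) → ∀ Q : Ideal (E ⊗[k] A), Q ∈ minimalPrimes (E ⊗[k] A) →
        IsDomain (((E ⊗[k] A) ⧸ Q) ⊗[E] AlgebraicClosure k) := by
  classical
  let Kb := AlgebraicClosure k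
  haveI : IsNoetherianRing (Kb ⊗[k] A) := Algebra.FiniteType.isNoetherianRing Kb _
  have hfin := minimalPrimes.finite_of_isNoetherianRing (Kb ⊗[k] A)
  have hgen : ∀ P : Ideal (Kb ⊗[k] A), ∃ G : Finset (Kb ⊗[k] A), Ideal.span (G : Set _) = P :=
    fun P => P.fg_of_isNoetherianRing
  choose G hG using hgen
  have hrep : ∀ z : Kb ⊗[k] A, ∃ s : Finset (Kb × A), z = ∑ i ∈ s, i.1 ⊗ₜ[k] i.2 :=
    TensorProduct.exists_finset
  choose s hs using hrep
  refine ⟨hfin.toFinset.biUnion fun P => (G P).biUnion fun z => (s z).image Prod.fst,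
    fun E _ _ _ _ hE Q hQ => ?_⟩
  let B := E ⊗[k] A
  let e : B ⊗[E] Kb ≃+* Kb ⊗[k] A :=
    (Algebra.TensorProduct.comm (E) B Kb).toRingEquiv.trans
      (Algebra.TensorProduct.cancelBaseChange k (E) Kb Kb A).toRingEquiv
  let ι : B →+* Kb ⊗[k] A := e.toRingHom.comp Algebra.TensorProduct.includeLeftRingHom
  have hι : ∀ (c : E) (a : A), ι (c ⊗ₜ[k] a) = (algebraMap E Kb c) ⊗ₜ[k] a := by
    intro c a
    show (Algebra.TensorProduct.cancelBaseChange k (E) Kb Kb A) ((1 : Kb) ⊗ₜ[E] (c ⊗ₜ[k] a)) = _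
    rw [Algebra.TensorProduct.cancelBaseChange_tmul]
    congr 1
    rw [Algebra.smul_def, mul_one]
  haveI := hQ.1.1
  obtain ⟨P, hP, hPQ⟩ : ∃ P ∈ minimalPrimes (Kb ⊗[k] A), Ideal.comap ι P = Q := by
    obtain ⟨q, hq⟩ := PrimeSpectrum.comap_surjective_of_faithfullyFlat
      (A := B) (B := B ⊗[E] Kb) ⟨Q, inferInstance⟩
    have hq' : Ideal.comap ι (Ideal.comap e.symm.toRingHom q.asIdeal) = Q := by
      have h : Ideal.comap (algebraMap B (B ⊗[E] Kb)) q.asIdeal = Q :=
        congrArg PrimeSpectrum.asIdeal hq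
      rw [← h, Ideal.comap_comap]
      congr 1
      apply RingHom.ext
      intro b
      simp [ι, Algebra.TensorProduct.algebraMap_apply]
    obtain ⟨P, hP, hle⟩ := Ideal.exists_minimalPrimes_le
      (I := (⊥ : Ideal (Kb ⊗[k] A))) (J := Ideal.comap e.symm.toRingHom q.asIdeal) bot_le
    haveI : P.IsPrime := hP.1.1
    exact ⟨P, hP, le_antisymm ((Ideal.comap_mono hle).trans hq'.le)
      (hQ.2 ⟨Ideal.IsPrime.comap ι, bot_le⟩ ((Ideal.comap_mono hle).trans hq'.le))⟩
  have hmap : Ideal.map ι Q = P := by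
    refine le_antisymm (hPQ ▸ Ideal.map_comap_le) ?_
    conv_lhs => rw [← hG P]
    rw [Ideal.span_le]
    intro z hz
    obtain ⟨b, hb⟩ : ∃ b, ι b = z := by
      have hmem : ∀ i ∈ s z, ∃ c : E, algebraMap E Kb c = i.1 := fun i hi => hE (by
        simp only [Finset.coe_biUnion, Set.mem_iUnion, Finset.coe_image]
        exact ⟨P, by simpa using hP, z, hz, i, hi, rfl⟩)
      choose c hc using hmem
      refine ⟨∑ i ∈ (s z).attach, c i.1 i.2 ⊗ₜ[k] i.1.2, ?_⟩
      rw [map_sum]
      conv_rhs => rw [hs z, ← Finset.sum_attach]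
      exact Finset.sum_congr rfl fun i _ => by rw [hι, hc]
    refine hb ▸ Ideal.mem_map_of_mem ι ?_
    rw [← hPQ, Ideal.mem_comap, hb, ← hG P]
    exact Ideal.subset_span hz
  haveI : P.IsPrime := hP.1.1
  let f : B →ₐ[E] B ⧸ Q := Ideal.Quotient.mkₐ (E) Q
  let g := Algebra.TensorProduct.map f (AlgHom.id (E) Kb)
  have hg : Function.Surjective g := TensorProduct.map_surjective
    (Ideal.Quotient.mkₐ_surjective (E) Q) Function.surjective_id
  have hker : RingHom.ker g = Ideal.comap e.toRingHom P := by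
    rw [Algebra.TensorProduct.rTensor_ker f (Ideal.Quotient.mkₐ_surjective (E) Q), ← hmap]
    have : RingHom.ker f = Q := Ideal.Quotient.mkₐ_ker (E) Q
    rw [this]
    conv_rhs => rw [show ι = e.toRingHom.comp Algebra.TensorProduct.includeLeftRingHom from rfl,
      ← Ideal.map_map]
    rw [Ideal.comap_map_of_bijective e.toRingHom e.bijective]
    rfl
  haveI : (RingHom.ker g.toRingHom).IsPrime :=
    (show RingHom.ker g.toRingHom = Ideal.comap e.toRingHom P from hker) ▸ Ideal.IsPrime.comap e.toRingHom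
  haveI : IsDomain ((B ⊗[E] Kb) ⧸ RingHom.ker g.toRingHom) := Ideal.Quotient.isDomain _
  exact (RingHom.quotientKerEquivOfSurjective (f := g.toRingHom) hg).symm.toMulEquiv.isDomain
    ((B ⊗[E] Kb) ⧸ RingHom.ker g.toRingHom)

end Groth.Agent.GenInt
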