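import Mathlib
import Groth.Agent.GenInt.Alg
import Groth.Agent.GenIrr.Basic
import Groth.Agent.S1543
import Groth.Agent.S4627
import Groth.Agent.H23.EquidimFibres
import Groth.Agent.BMLib.Piece

/-!
# Components become geometrically integral after a finite extension of the ground field
-/

set_option autoImplicit false
set_option backward.isDefEq.respectTransparency false
set_option backward.isDefEq.respectTransparency.types false
set_option maxHeartbeats 1000000
set_option synthInstance.maxHeartbeats 200000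
universe u

open AlgebraicGeometry CategoryTheory CategoryTheory.Limits
open scoped TensorProduct

namespace Groth.Agent.GenInt

/-- Every irreducible component of `F`, reduced, is geometrically integral over `π`. -/
def CompsGInt {F T : Scheme.{u}} (π : F ⟶ T) : Prop :=
  ∀ (Z : Set ↑F) (hZ : Z ∈ irreducibleComponents ↑F),
    GeometricallyIntegral ((Scheme.IdealSheafData.vanishingIdeal
      (⟨Z, isClosed_of_mem_irreducibleComponents Z hZ⟩ : TopologicalSpace.Closeds _)).subschemeι ≫ π)

theorem CompsGInt.of_iso {F F' T T' : Scheme.{u}} {π : F ⟶ T} {π' : F' ⟶ T'} (e : F ≅ F') (φ : T ≅ T')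
    (w : e.hom ≫ π' = π ≫ φ.hom) (h : CompsGInt π') : CompsGInt π := by
  intro Z hZ
  let θ : ↑F ≃ₜ ↑F' := Scheme.homeoOfIso e
  have hne : (Z ∩ Set.range θ.symm).Nonempty := by
    obtain ⟨z, hz⟩ := hZ.1.1
    exact ⟨z, hz, θ z, by simp⟩
  have hZ' : θ.symm ⁻¹' Z ∈ irreducibleComponents ↑F' :=
    preimage_mem_irreducibleComponents hZ θ.symm.isOpenEmbedding hne
  set i := (Scheme.IdealSheafData.vanishingIdeal
    (⟨Z, isClosed_of_mem_irreducibleComponents Z hZ⟩ : TopologicalSpace.Closeds _)).subschemeι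
  set i' := (Scheme.IdealSheafData.vanishingIdeal
    (⟨θ.symm ⁻¹' Z, isClosed_of_mem_irreducibleComponents _ hZ'⟩ :
      TopologicalSpace.Closeds _)).subschemeι
  obtain ⟨a, ha⟩ := H23.RedSub.exists_iso_of_range_eq (i ≫ e.hom) i' (by
    rw [Scheme.Hom.comp_base, TopCat.coe_comp, Set.range_comp, GenIrr.range_vanishing,
      GenIrr.range_vanishing]
    exact θ.image_eq_preimage_symm Z)
  have h' : GeometricallyIntegral (i' ≫ π') := h _ hZ'
  have e1 : i ≫ π = a.hom ≫ (i' ≫ π') ≫ φ.inv := by
    rw [Category.assoc, reassoc_of% ha, reassoc_of% w, Iso.hom_inv_id, Category.comp_id]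
  haveI : MorphismProperty.RespectsIso (C := Scheme.{u}) @GeometricallyIntegral :=
    MorphismProperty.IsStableUnderBaseChange.respectsIso
  show GeometricallyIntegral (i ≫ π)
  rw [e1, MorphismProperty.cancel_left_of_respectsIso @GeometricallyIntegral,
    MorphismProperty.cancel_right_of_respectsIso @GeometricallyIntegral]
  exact h'

/-- Geometric integrality of an integral scheme over a field can be tested on a nonempty open. -/
theorem geometricallyIntegral_of_open {E : Type u} [Field E] {T W : Scheme.{u}} [IsIntegral T]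
    (s : T ⟶ Spec (CommRingCat.of E)) (w : W ⟶ T) [IsOpenImmersion w] [Nonempty ↥W]
    (hW : GeometricallyIntegral (w ≫ s)) : GeometricallyIntegral s := by
  haveI := hW
  haveI : GeometricallyIrreducible s := by
    constructor
    intro K _ x Z p q hsq
    haveI : UniversallyOpen x := inferInstance
    haveI : UniversallyOpen p :=
      MorphismProperty.of_isPullback (P := @UniversallyOpen) hsq.flip inferInstance
    have hsq' : IsPullback (pullback.fst w p) (pullback.snd w p ≫ q) (w ≫ s) x := by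
      have := ((IsPullback.of_hasPullback w p).flip.paste_horiz hsq.flip).flip
      exact this
    haveI : IrreducibleSpace ↥(pullback w p) :=
      GeometricallyIrreducible.geometrically_irreducibleSpace (f := w ≫ s) _ _ _ hsq'
    have hr : Set.range (pullback.snd w p) = p ⁻¹' Set.range w := by
      rw [Scheme.Pullback.range_snd]
    have hd : Dense (Set.range w) :=
      w.isOpenEmbedding.isOpen_range.dense (Set.range_nonempty w)
    have hd' : Dense (p ⁻¹' Set.range w) := hd.preimage p.isOpenMap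
    have hirr : IsIrreducible (Set.range (pullback.snd w p)) := by
      rw [← Set.image_univ]
      exact (IrreducibleSpace.isIrreducible_univ _).image _ (pullback.snd w p).continuous.continuousOn
    rw [irreducibleSpace_def, Set.top_eq_univ, ← hd'.closure_eq, ← hr]
    exact hirr.closure
  haveI : GeometricallyReduced s := by
    letI : T.Over (Spec (CommRingCat.of E)) := ⟨s⟩
    refine S1543.result E T fun Z hZ η hη K _ _ z hz => ?_
    have hηw : η ∈ Set.range w := by
      obtain ⟨y, hy⟩ := Set.range_nonempty w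
      have hgen : IsGenericPoint η (⊤ : Set T) := by
        have : Z = (⊤ : Set T) := by
          have := hZ
          rw [irreducibleComponents_eq_singleton] at this
          simpa using this
        exact this ▸ hη
      exact hgen.mem_open_set_iff w.isOpenEmbedding.isOpen_range |>.2 ⟨y, trivial, hy⟩
    let W' := pullback (w ≫ s) (Spec.map (CommRingCat.ofHom (algebraMap E K)))
    let w' : W' ⟶ Curv2.bc E T K := pullback.map _ _ _ _ w (𝟙 _) (𝟙 _) (by simp; rfl) (by simp)
    haveI : IsReduced W' :=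
      GeometricallyReduced.geometrically_isReduced (f := w ≫ s) _ _ _ (.of_hasPullback _ _)
    haveI : IsOpenImmersion w' := inferInstance
    have hz' : z ∈ Set.range w' := by
      rw [Scheme.Pullback.range_map]
      simp only [Scheme.Hom.id_base, TopCat.coe_id, Set.range_id, Set.preimage_univ, Set.inter_univ]
      show Curv2.bcFst E T K z ∈ Set.range w
      rw [hz]; exact hηw
    obtain ⟨t, rfl⟩ := hz'
    exact isReduced_of_injective (w'.stalkMap t).hom
      (ConcreteCategory.bijective_of_isIso (w'.stalkMap t)).injective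
  exact GeometricallyIntegral.of_geometricallyReduced_of_geometricallyIrreducible _

theorem compsGInt_of_large (k : Type u) [Field k] (X : Scheme.{u})
    [X.Over (Spec (CommRingCat.of k))] (E' : Type u) [Field E'] [Algebra k E']
    [Algebra E' (AlgebraicClosure k)] [IsScalarTower k E' (AlgebraicClosure k)]
    (𝒰 : X.OpenCover) [∀ i, IsAffine (𝒰.X i)]
    [∀ i, Algebra k Γ(𝒰.X i, ⊤)]
    (hφ : ∀ i, (𝒰.X i).isoSpec.inv ≫ 𝒰.f i ≫ (X ↘ Spec (CommRingCat.of k)) =
      Spec.map (CommRingCat.ofHom (algebraMap k Γ(𝒰.X i, ⊤))))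
    (hE : ∀ i (Q : Ideal (E' ⊗[k] Γ(𝒰.X i, ⊤))), Q ∈ minimalPrimes (E' ⊗[k] Γ(𝒰.X i, ⊤)) →
      IsDomain (((E' ⊗[k] Γ(𝒰.X i, ⊤)) ⧸ Q) ⊗[E'] AlgebraicClosure k)) :
    CompsGInt (Curv2.bcSnd k X E') := by
  classical
  intro Z hZ
  set T := (Scheme.IdealSheafData.vanishingIdeal
    (⟨Z, isClosed_of_mem_irreducibleComponents Z hZ⟩ : TopologicalSpace.Closeds _)).subscheme
  set ι := (Scheme.IdealSheafData.vanishingIdeal
    (⟨Z, isClosed_of_mem_irreducibleComponents Z hZ⟩ : TopologicalSpace.Closeds _)).subschemeι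
  have hιr : Set.range ι = Z := GenIrr.range_vanishing _
  haveI : IrreducibleSpace ↥T := by
    haveI : IrreducibleSpace ↥(Set.range ι) := Subtype.irreducibleSpace (by rw [hιr]; exact hZ.1)
    haveI : Nonempty ↥T := by
      obtain ⟨z, hz⟩ := hZ.1.1
      obtain ⟨t, -⟩ : z ∈ Set.range ι := hιr.symm ▸ hz
      exact ⟨t⟩
    exact ι.isClosedEmbedding.isEmbedding.toHomeomorph.isOpenEmbedding.irreducibleSpace
  haveI : IsIntegral T := isIntegral_of_irreducibleSpace_of_isReduced _
  obtain ⟨z, hz⟩ := hZ.1.1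
  obtain ⟨i, y₀, hy₀⟩ : ∃ i, Curv2.bcFst k X E' z ∈ Set.range (𝒰.f i) :=
    ⟨_, 𝒰.covers _⟩
  let A := Γ(𝒰.X i, ⊤)
  let u : Spec A ⟶ X := (𝒰.X i).isoSpec.inv ≫ 𝒰.f i
  have hu : u ≫ (X ↘ Spec (CommRingCat.of k)) = Spec.map (CommRingCat.ofHom (algebraMap k A)) := by
    rw [Category.assoc]
    exact hφ i
  have h0 : IsPullback (Spec.map (CommRingCat.ofHom
      (Algebra.TensorProduct.includeRight (R := k) (A := E') (B := A)).toRingHom))
      (Spec.map (CommRingCat.ofHom (algebraMap E' (E' ⊗[k] A))))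
      (u ≫ (X ↘ Spec (CommRingCat.of k))) (Spec.map (CommRingCat.ofHom (algebraMap k E'))) := by
    rw [hu]
    exact isPullback_SpecMap_of_isPushout _ _ _ _ (CommRingCat.isPushout_tensorProduct k E' A).flip
  let j : Spec (CommRingCat.of (E' ⊗[k] A)) ⟶ Curv2.bc k X E' :=
    pullback.lift (Spec.map (CommRingCat.ofHom
      (Algebra.TensorProduct.includeRight (R := k) (A := E') (B := A)).toRingHom) ≫ u)
      (Spec.map (CommRingCat.ofHom (algebraMap E' (E' ⊗[k] A)))) (by rw [Category.assoc]; exact h0.w)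
  have hjs : j ≫ Curv2.bcSnd k X E' = Spec.map (CommRingCat.ofHom (algebraMap E' (E' ⊗[k] A))) :=
    pullback.lift_snd _ _ _
  have hj : IsPullback (Spec.map (CommRingCat.ofHom
      (Algebra.TensorProduct.includeRight (R := k) (A := E') (B := A)).toRingHom)) j u
      (Curv2.bcFst k X E') := by
    refine IsPullback.of_bot
      ?_ (pullback.lift_fst _ _ _).symm (IsPullback.of_hasPullback _ _)
    rw [hjs]
    exact h0
  haveI : IsOpenImmersion u := inferInstance
  haveI : IsOpenImmersion j := MorphismProperty.of_isPullback (P := @IsOpenImmersion) hj inferInstance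
  have hzj : z ∈ Set.range j := by
    obtain ⟨y, hy⟩ : Curv2.bcFst k X E' z ∈ Set.range u :=
      ⟨(𝒰.X i).isoSpec.hom y₀, by
        rw [← hy₀]
        show ((𝒰.X i).isoSpec.hom ≫ (𝒰.X i).isoSpec.inv ≫ 𝒰.f i) y₀ = _
        rw [Iso.hom_inv_id_assoc]⟩
    obtain ⟨w, -, hw⟩ := Scheme.exists_preimage_of_isPullback hj y z hy
    exact ⟨w, hw⟩
  have hC : j ⁻¹' Z ∈ irreducibleComponents (PrimeSpectrum (E' ⊗[k] A)) :=
    preimage_mem_irreducibleComponents hZ j.isOpenEmbedding ⟨z, hz, hzj⟩
  let Q := PrimeSpectrum.vanishingIdeal (j ⁻¹' Z : Set (PrimeSpectrum (E' ⊗[k] A)))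
  have hQ : Q ∈ minimalPrimes (E' ⊗[k] A) := by
    rw [← PrimeSpectrum.vanishingIdeal_irreducibleComponents]
    exact ⟨_, hC, rfl⟩
  have hdom : IsDomain (((E' ⊗[k] A) ⧸ Q) ⊗[E'] AlgebraicClosure k) := hE i Q hQ
  let r : Spec (CommRingCat.of ((E' ⊗[k] A) ⧸ Q)) ⟶ Spec (CommRingCat.of (E' ⊗[k] A)) :=
    Spec.map (CommRingCat.ofHom (Ideal.Quotient.mk Q))
  haveI : IsClosedImmersion r := IsClosedImmersion.spec_of_surjective _ Ideal.Quotient.mk_surjective
  haveI := hQ.1.1
  have hrr : Set.range r = j ⁻¹' Z := by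
    show Set.range (PrimeSpectrum.comap (Ideal.Quotient.mk Q)) = _
    rw [range_comap_of_surjective _ _ Ideal.Quotient.mk_surjective, Ideal.mk_ker,
      PrimeSpectrum.zeroLocus_vanishingIdeal_eq_closure]
    exact (isClosed_of_mem_irreducibleComponents _ hC).closure_eq
  let W := pullback ι j
  haveI : IsReduced W := isReduced_of_isOpenImmersion (pullback.fst ι j)
  obtain ⟨e, he⟩ := H23.RedSub.exists_iso_of_range_eq (pullback.snd ι j) r (by
    rw [Scheme.Pullback.range_snd, hιr, hrr])
  have hWint : GeometricallyIntegral (pullback.fst ι j ≫ ι ≫ Curv2.bcSnd k X E') := by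
    rw [reassoc_of% pullback.condition (f := ι) (g := j), hjs, ← he, Category.assoc]
    haveI : MorphismProperty.RespectsIso (C := Scheme.{u}) @GeometricallyIntegral :=
      MorphismProperty.IsStableUnderBaseChange.respectsIso
    rw [MorphismProperty.cancel_left_of_respectsIso @GeometricallyIntegral]
    have hr : r ≫ Spec.map (CommRingCat.ofHom (algebraMap E' (E' ⊗[k] A))) =
        Spec.map (CommRingCat.ofHom (algebraMap E' ((E' ⊗[k] A) ⧸ Q))) := by
      rw [← Spec.map_comp]; rfl
    rw [hr, S4627.result (K := AlgebraicClosure k)]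
    let eK := pullbackSpecIso E' ((E' ⊗[k] A) ⧸ Q) (AlgebraicClosure k)
    haveI : IsIntegral (FBase.bc (Spec.map (CommRingCat.ofHom (algebraMap E' ((E' ⊗[k] A) ⧸ Q))))
        (AlgebraicClosure k)) := by
      haveI : IsIntegral (Spec (CommRingCat.of (((E' ⊗[k] A) ⧸ Q) ⊗[E'] AlgebraicClosure k))) :=
        inferInstance
      haveI : Nontrivial (((E' ⊗[k] A) ⧸ Q) ⊗[E'] AlgebraicClosure k) := hdom.toNontrivial
      haveI : Nonempty ↥(FBase.bc (Spec.map (CommRingCat.ofHom (algebraMap E' ((E' ⊗[k] A) ⧸ Q))))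
          (AlgebraicClosure k)) :=
        ⟨eK.inv (⟨⊥, Ideal.isPrime_bot⟩ : PrimeSpectrum (((E' ⊗[k] A) ⧸ Q) ⊗[E'] AlgebraicClosure k))⟩
      exact isIntegral_of_isOpenImmersion eK.hom
    haveI : IsIntegral (Over.mk (FBase.bcStr (Spec.map (CommRingCat.ofHom
      (algebraMap E' ((E' ⊗[k] A) ⧸ Q)))) (AlgebraicClosure k))).left := ‹IsIntegral (FBase.bc _ _)›
    exact H23.EquidimFibres.geometricallyIntegral_of_isAlgClosed
      (V := Over.mk (FBase.bcStr (Spec.map (CommRingCat.ofHom (algebraMap E' ((E' ⊗[k] A) ⧸ Q))))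
        (AlgebraicClosure k)))
  haveI : Nonempty ↥W := by
    obtain ⟨x, hx⟩ := hzj
    obtain ⟨t, ht⟩ : x ∈ Set.range (pullback.snd ι j) := by
      rw [Scheme.Pullback.range_snd, hιr]; exact show j x ∈ Z by rw [hx]; exact hz
    exact ⟨t⟩
  exact geometricallyIntegral_of_open (ι ≫ Curv2.bcSnd k X E') (pullback.fst ι j) hWint

/-- Over a big enough finite extension, the components of a scheme of finite type over a field are
geometrically integral. -/
theorem exists_finite_extension (k : Type u) [Field k] (X : Scheme.{u})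
    [X.Over (Spec (CommRingCat.of k))] [LocallyOfFiniteType (X ↘ Spec (CommRingCat.of k))]
    [CompactSpace ↥X] :
    ∃ (L : Type u) (_ : Field L) (_ : Algebra k L), FiniteDimensional k L ∧
      CompsGInt (Curv2.bcSnd k X L) := by
  classical
  let 𝒰 := X.affineCover.finiteSubcover
  haveI : ∀ i, IsAffine (𝒰.X i) := fun i => inferInstanceAs (IsAffine (X.affineCover.X _))
  let φ : ∀ i, CommRingCat.of k ⟶ Γ(𝒰.X i, ⊤) := fun i =>
    Spec.preimage ((𝒰.X i).isoSpec.inv ≫ 𝒰.f i ≫ (X ↘ Spec (CommRingCat.of k)))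
  letI : ∀ i, Algebra k Γ(𝒰.X i, ⊤) := fun i => (φ i).hom.toAlgebra
  haveI : ∀ i, Algebra.FiniteType k Γ(𝒰.X i, ⊤) := fun i => by
    have : LocallyOfFiniteType (Spec.map (φ i)) := by rw [Spec.map_preimage]; infer_instance
    exact (HasRingHomProperty.Spec_iff (P := @LocallyOfFiniteType)).mp this
  choose F hF using fun i => exists_finite_defining_components k Γ(𝒰.X i, ⊤)
  let S : Set (AlgebraicClosure k) := ⋃ i, (F i : Set _)
  haveI : Finite 𝒰.I₀ := inferInstance
  have hS : S.Finite := Set.finite_iUnion fun i => (F i).finite_toSet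
  let E' := IntermediateField.adjoin k S
  haveI : FiniteDimensional k E' := by
    haveI := hS.to_subtype
    exact IntermediateField.finiteDimensional_adjoin fun x _ => Algebra.IsIntegral.isIntegral x
  refine ⟨E', inferInstance, inferInstance, inferInstance,
    compsGInt_of_large k X E' 𝒰 (fun i => (Spec.map_preimage _).symm) fun i Q hQ => hF i E' ?_ Q hQ⟩
  intro x hx
  exact ⟨⟨x, IntermediateField.subset_adjoin k S (Set.mem_iUnion.2 ⟨i, hx⟩)⟩, rfl⟩

end Groth.Agent.GenInt
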