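import Mathlib
import Groth.Agent.GenInt.Field
import Groth.Agent.GeomApprox.Basic
import Groth.Agent.FlatMisc.GenFlat
import Groth.Agent.FlatMisc.GenericFibreRed
import Groth.Agent.S1301
import Groth.Agent.S9764
import Groth.Agent.S9735

/-!
# Spreading geometric integrality of the components of the generic fibre
-/

set_option autoImplicit false
set_option backward.isDefEq.respectTransparency false
set_option backward.isDefEq.respectTransparency.types false
set_option maxHeartbeats 1000000
universe u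

open AlgebraicGeometry CategoryTheory CategoryTheory.Limits

namespace Groth.Agent.GenInt

/-- The point of a spectrum of a field through which a preimmersion factors computes the fibre. -/
theorem compsGInt_fiber {X' S' : Scheme.{u}} (p : X' ⟶ S') {L : Type u} [Field L]
    (q : Spec (CommRingCat.of L) ⟶ S') [IsPreimmersion q] {F : Scheme.{u}} (a : F ⟶ X')
    (π : F ⟶ Spec (CommRingCat.of L)) (sq : IsPullback a π p q) (h : CompsGInt π) :
    CompsGInt (p.fiberToSpecResidueField (q (IsLocalRing.closedPoint L))) := by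
  haveI := GenIrr.isIso_descResidueField q
  let χ := S'.descResidueField (Scheme.stalkClosedPointTo q)
  have hχ : Spec.map χ ≫ S'.fromSpecResidueField _ = q :=
    Scheme.descResidueField_stalkClosedPointTo_fromSpecResidueField _ _ q
  have h1 : IsPullback (pullback.fst p (S'.fromSpecResidueField (q (IsLocalRing.closedPoint L))))
      (p.fiberToSpecResidueField (q (IsLocalRing.closedPoint L)) ≫ inv (Spec.map χ)) p q := by
    refine (IsPullback.of_hasPullback p _).of_iso (Iso.refl _) (Iso.refl _)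
      (asIso (Spec.map χ)).symm (Iso.refl _) ?_ ?_ ?_ ?_
    · simp
    · simp [Scheme.Hom.fiberToSpecResidueField]
    · simp
    · rw [Iso.symm_hom, asIso_inv, IsIso.eq_inv_comp, Iso.refl_hom, Category.comp_id]
      exact hχ
  refine CompsGInt.of_iso (h1.isoIsPullback _ _ sq) (asIso (Spec.map χ)).symm ?_ h
  exact IsPullback.isoIsPullback_hom_snd _ _ h1 sq

theorem exists_component_preimage {P X : Scheme.{u}} (a : P ⟶ X) [IsOpenImmersion a] {C : Set P}
    (hC : C ∈ irreducibleComponents ↥P) :
    ∃ D ∈ irreducibleComponents ↥X, a ⁻¹' D = C := by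
  obtain ⟨D, hD, hle⟩ := exists_mem_irreducibleComponents_subset_of_isIrreducible _
    (hC.1.image a a.continuous.continuousOn)
  obtain ⟨c, hc⟩ := hC.1.1
  have h := preimage_mem_irreducibleComponents hD a.isOpenEmbedding
    ⟨a c, hle ⟨c, hc, rfl⟩, c, rfl⟩
  exact ⟨D, hD, le_antisymm (hC.2 h.1 (Set.image_subset_iff.mp hle)) (Set.image_subset_iff.mp hle)⟩

theorem preimage_fiberι_mem_irreducibleComponents {X S : Scheme.{u}} [IsIntegral S] (p : X ⟶ S)
    {C : Set X} (hC : C ∈ irreducibleComponents ↥X) {x : X} (hxC : x ∈ C)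
    (hx : p x = genericPoint ↥S) :
    p.fiberι (genericPoint ↥S) ⁻¹' C ∈ irreducibleComponents ↥(p.fiber (genericPoint ↥S)) := by
  have hcl := isClosed_of_mem_irreducibleComponents C hC
  set ι := p.fiberι (genericPoint ↥S)
  have hξ : p hC.1.genericPoint = genericPoint ↥S := by
    have h1 : p hC.1.genericPoint ⤳ p x := by
      refine (hC.1.isGenericPoint_genericPoint hcl |>.specializes hxC).map p.continuous
    exact ((h1.antisymm ((genericPoint_spec ↥S).specializes trivial |> fun h2 => hx ▸ h2)).eq).trans hx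
  obtain ⟨t, ht⟩ : hC.1.genericPoint ∈ Set.range ι := by
    rw [Scheme.Hom.range_fiberι]; exact hξ
  have hgen : closure {t} = ι ⁻¹' C := by
    rw [ι.isEmbedding.closure_eq_preimage_closure_image, Set.image_singleton, ht,
      (hC.1.isGenericPoint_genericPoint hcl).def]
  refine ⟨hgen ▸ isIrreducible_singleton.closure, fun u hu hle => ?_⟩
  have h1 : C ⊆ closure (ι '' u) := by
    rw [← (hC.1.isGenericPoint_genericPoint hcl).def]
    refine closure_mono (Set.singleton_subset_iff.mpr ⟨t, hle ?_, ht⟩)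
    rw [← hgen]
    exact subset_closure rfl
  have h2 : closure (ι '' u) ⊆ C := hC.2 (hu.image ι ι.continuous.continuousOn).closure h1
  intro y hy
  exact h2 (subset_closure ⟨y, hy, rfl⟩)

theorem geometricallyIntegral_genericFibre {X S : Scheme.{u}} [IsIntegral S] (p : X ⟶ S)
    (h : CompsGInt (p.fiberToSpecResidueField (genericPoint ↥S))) {T : Scheme.{u}} [IsReduced T]
    (ι : T ⟶ X) [IsClosedImmersion ι] (hι : Set.range ι ∈ irreducibleComponents ↥X) {x : T}
    (hx : p (ι x) = genericPoint ↥S) :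
    GeometricallyIntegral ((ι ≫ p).fiberToSpecResidueField (genericPoint ↥S)) := by
  set η := genericPoint ↥S
  haveI : IsReduced ((ι ≫ p).fiber η) := by
    refine FlatMisc.isReduced_fiber_of_generic (ι ≫ p) η fun w hw => ?_
    exact (hw.antisymm ((genericPoint_spec ↥S).specializes trivial)).eq
  let e : (ι ≫ p).fiber η ⟶ p.fiber η :=
    pullback.lift ((ι ≫ p).fiberι η ≫ ι) ((ι ≫ p).fiberToSpecResidueField η) (by
      rw [Category.assoc]
      exact pullback.condition)
  have he : IsPullback ((ι ≫ p).fiberι η) e ι (p.fiberι η) := by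
    refine IsPullback.of_bot ?_ (pullback.lift_fst _ _ _).symm (IsPullback.of_hasPullback _ _)
    rw [pullback.lift_snd]
    exact IsPullback.of_hasPullback _ _
  haveI : IsClosedImmersion e :=
    MorphismProperty.of_isPullback (P := @IsClosedImmersion) he inferInstance
  have hr : Set.range e = p.fiberι η ⁻¹' Set.range ι := by
    apply Set.Subset.antisymm
    · rintro _ ⟨y, rfl⟩
      exact ⟨(ι ≫ p).fiberι η y, by
        rw [← Scheme.Hom.comp_apply, he.w, Scheme.Hom.comp_apply]⟩
    · rintro z ⟨y, hy⟩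
      obtain ⟨w, -, hw⟩ := Scheme.exists_preimage_of_isPullback he y z hy
      exact ⟨w, hw⟩
  have hcomp := preimage_fiberι_mem_irreducibleComponents p hι ⟨x, rfl⟩ hx
  obtain ⟨φ, hφ⟩ := H23.RedSub.exists_iso_of_range_eq e
    ((Scheme.IdealSheafData.vanishingIdeal (⟨p.fiberι η ⁻¹' Set.range ι,
      isClosed_of_mem_irreducibleComponents _ hcomp⟩ : TopologicalSpace.Closeds _)).subschemeι) (by
    rw [GenIrr.range_vanishing]; exact hr)
  have h2 := h _ hcomp
  haveI : MorphismProperty.RespectsIso (C := Scheme.{u}) @GeometricallyIntegral :=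
    MorphismProperty.IsStableUnderBaseChange.respectsIso
  have e2 : (ι ≫ p).fiberToSpecResidueField η = φ.hom ≫
      ((Scheme.IdealSheafData.vanishingIdeal (⟨p.fiberι η ⁻¹' Set.range ι,
        isClosed_of_mem_irreducibleComponents _ hcomp⟩ : TopologicalSpace.Closeds _)).subschemeι ≫
        p.fiberToSpecResidueField η) := by
    rw [reassoc_of% hφ]
    exact (pullback.lift_snd _ _ _).symm
  rw [e2, MorphismProperty.cancel_left_of_respectsIso @GeometricallyIntegral]
  exact h2

theorem exists_open_geometricallyIntegral {T S : Scheme.{u}} [IsIntegral S] [IsNoetherian S]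
    (q : T ⟶ S) [LocallyOfFiniteType q] [QuasiCompact q]
    (h : GeometricallyIntegral (q.fiberToSpecResidueField (genericPoint ↥S))) :
    ∃ O : S.Opens, (O : Set S).Nonempty ∧ ∀ W : S.Opens, W ≤ O → GeometricallyIntegral (q ∣_ W) := by
  haveI : IsLocallyNoetherian T := LocallyOfFiniteType.isLocallyNoetherian q
  haveI : LocallyOfFinitePresentation q := inferInstance
  haveI : QuasiSeparated q := inferInstance
  haveI := h
  obtain ⟨U, hU, hηU, hUle⟩ := GeomComp5.exists_nhd_of_mem
    (GeomComp5.isLocallyConstructible_level (fun a _ => a = 1) q)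
    ((GeomApprox.geometricallyIrreducible_fiber_iff q _).1 inferInstance)
  obtain ⟨U', hU', hηU', hUle'⟩ := GeomComp5.exists_nhd_of_mem (S1301.result q)
    (show GeometricallyReduced (q.fiberToSpecResidueField (genericPoint ↥S)) from inferInstance)
  refine ⟨⟨U ∩ U', hU.inter hU'⟩, ⟨_, hηU, hηU'⟩, fun W hW => ?_⟩
  haveI : GeometricallyIrreducible (q ∣_ W) := by
    rw [GeometricallyIrreducible.iff_geometricallyIrreducible_fiber]
    intro t
    have := (Set.ext_iff.mp (S9764.result q W.ι (q ∣_ W) _ (isPullback_morphismRestrict q W).flip) t)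
    exact this.mpr ((GeomApprox.geometricallyIrreducible_fiber_iff q _).2 (hUle (hW t.2).1))
  haveI : GeometricallyReduced (q ∣_ W) := by
    constructor
    rw [geometrically_iff_forall_fiberToSpecResidueField]
    intro t
    have := (Set.ext_iff.mp (S9735.result q W.ι (q ∣_ W) _ (isPullback_morphismRestrict q W).flip) t)
    exact (this.mpr (hUle' (hW t.2).2)).geometrically_isReduced
  exact GeometricallyIntegral.of_geometricallyReduced_of_geometricallyIrreducible _

/-- The components of `X` are, over a nonempty open of the base, flat with geometrically integral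
fibres as soon as this holds for the components of the generic fibre. -/
theorem exists_good_open {X S : Scheme.{u}} [IsIntegral S] [IsNoetherian S] (p : X ⟶ S)
    [LocallyOfFiniteType p] [QuasiCompact p]
    (h : CompsGInt (p.fiberToSpecResidueField (genericPoint ↥S))) :
    ∃ O : S.Opens, (O : Set S).Nonempty ∧
      ∀ {T P : Scheme.{u}} (j : T ⟶ S) [IsOpenImmersion j] (a : P ⟶ X) (b : P ⟶ T),
        IsPullback a b p j → Set.range j ⊆ O →
        ∀ (Z : Scheme.{u}) (i : Z ⟶ P) [IsClosedImmersion i] [IsReduced Z],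
          Set.range i.base ∈ irreducibleComponents ↥P → Flat (i ≫ b) ∧ GeometricallyIntegral (i ≫ b) := by
  classical
  haveI : IsLocallyNoetherian X := LocallyOfFiniteType.isLocallyNoetherian p
  haveI : CompactSpace ↥X := QuasiCompact.compactSpace_of_compactSpace p
  haveI : IsNoetherian X := {}
  let sub := fun C : irreducibleComponents ↥X => (Scheme.IdealSheafData.vanishingIdeal
      (⟨C.1, isClosed_of_mem_irreducibleComponents C.1 C.2⟩ : TopologicalSpace.Closeds _)).subschemeι
  have key : ∀ C : irreducibleComponents ↥X, ∃ O : S.Opens, (O : Set S).Nonempty ∧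
      ((∀ x ∈ C.1, p x ∉ O) ∨
        (Flat ((sub C ≫ p) ∣_ O) ∧ GeometricallyIntegral ((sub C ≫ p) ∣_ O))) := by
    intro C
    have hr : Set.range (sub C) = C.1 := GenIrr.range_vanishing _
    by_cases hC : ∃ x ∈ C.1, p x = genericPoint ↥S
    · obtain ⟨x, hxC, hx⟩ := hC
      obtain ⟨x', rfl⟩ : x ∈ Set.range (sub C) := hr.symm ▸ hxC
      obtain ⟨O₁, hO₁, hGI⟩ := exists_open_geometricallyIntegral (sub C ≫ p)
        (geometricallyIntegral_genericFibre p h (sub C) (hr.symm ▸ C.2) hx)
      obtain ⟨W, hW, hWle, hWflat, -⟩ := FlatMisc.exists_flat_open (sub C ≫ p) O₁ hO₁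
      exact ⟨W, hW, Or.inr ⟨hWflat, hGI W hWle⟩⟩
    · have hlc : Topology.IsLocallyConstructible (p '' C.1)ᶜ := by
        haveI : LocallyOfFinitePresentation p := inferInstance
        haveI : QuasiCompact (sub C ≫ p) := inferInstance
        rw [← hr, ← Set.range_comp, ← Set.image_univ]
        exact ((sub C ≫ p).isConstructible_image
          Topology.IsConstructible.univ).compl.isLocallyConstructible
      obtain ⟨U, hU, hηU, hUle⟩ := GeomComp5.exists_nhd_of_mem hlc
        (fun ⟨x, hx, hx'⟩ => hC ⟨x, hx, hx'⟩)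
      exact ⟨⟨U, hU⟩, ⟨_, hηU⟩, Or.inl fun x hx hxU => hUle hxU ⟨x, hx, rfl⟩⟩
  choose O hO hOgood using key
  haveI : Finite (irreducibleComponents ↥X) :=
    (TopologicalSpace.NoetherianSpace.finite_irreducibleComponents (α := ↥X)).to_subtype
  have hgen : ∀ C, genericPoint ↥S ∈ O C := fun C =>
    ((genericPoint_spec ↥S).mem_open_set_iff (O C).2).2 (by simpa using hO C)
  refine ⟨⟨⋂ C, (O C : Set S), isOpen_iInter_of_finite fun C => (O C).2⟩,
    ⟨genericPoint ↥S, Set.mem_iInter.2 hgen⟩, ?_⟩
  intro T P j _ a b sq hj Z i _ _ hi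
  haveI : IsOpenImmersion a := MorphismProperty.of_isPullback (P := @IsOpenImmersion) sq.flip inferInstance
  obtain ⟨D, hD, hDa⟩ := exists_component_preimage a hi
  have hrD : Set.range (sub ⟨D, hD⟩) = D := GenIrr.range_vanishing _
  have hjD : Set.range j ⊆ O ⟨D, hD⟩ := fun s hs => Set.mem_iInter.1 (hj hs) _
  obtain ⟨hflat, hgi⟩ := (hOgood ⟨D, hD⟩).resolve_left (fun hemp => by
    obtain ⟨_, z, rfl⟩ := hi.1.1
    have hz : i z ∈ a ⁻¹' D := hDa.symm ▸ ⟨z, rfl⟩
    refine hemp (a (i z)) hz (hjD ⟨b (i z), ?_⟩)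
    rw [← Scheme.Hom.comp_apply, ← sq.w, Scheme.Hom.comp_apply])
  haveI : IsReduced (pullback (sub ⟨D, hD⟩) a) :=
    isReduced_of_isOpenImmersion (pullback.fst (sub ⟨D, hD⟩) a)
  obtain ⟨φ, hφ⟩ := H23.RedSub.exists_iso_of_range_eq i (pullback.snd (sub ⟨D, hD⟩) a) (by
    rw [Scheme.Pullback.range_snd, hrD, hDa])
  let j' : T ⟶ (O ⟨D, hD⟩).toScheme := IsOpenImmersion.lift (O ⟨D, hD⟩).ι j (by simpa using hjD)
  have hj' : j' ≫ (O ⟨D, hD⟩).ι = j := IsOpenImmersion.lift_fac _ _ _
  have sq2 : IsPullback (pullback.fst (sub ⟨D, hD⟩) a) (pullback.snd (sub ⟨D, hD⟩) a ≫ b)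
      (sub ⟨D, hD⟩ ≫ p) j :=
    (IsPullback.of_hasPullback _ _).paste_vert sq
  let a' : pullback (sub ⟨D, hD⟩) a ⟶ ((sub ⟨D, hD⟩ ≫ p) ⁻¹ᵁ O ⟨D, hD⟩).toScheme :=
    (isPullback_morphismRestrict (sub ⟨D, hD⟩ ≫ p) (O ⟨D, hD⟩)).flip.lift
      (pullback.fst (sub ⟨D, hD⟩) a) ((pullback.snd (sub ⟨D, hD⟩) a ≫ b) ≫ j')
      (by rw [Category.assoc, hj']; exact sq2.w)
  have sq3 : IsPullback a' (pullback.snd (sub ⟨D, hD⟩) a ≫ b)
      ((sub ⟨D, hD⟩ ≫ p) ∣_ O ⟨D, hD⟩) j' := by
    refine IsPullback.of_right ?_ (IsPullback.lift_snd _ _ _ _)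
      (isPullback_morphismRestrict (sub ⟨D, hD⟩ ≫ p) (O ⟨D, hD⟩)).flip
    rw [IsPullback.lift_fst, hj']
    exact sq2
  rw [← hφ, Category.assoc]
  haveI : MorphismProperty.RespectsIso (C := Scheme.{u}) @GeometricallyIntegral :=
    MorphismProperty.IsStableUnderBaseChange.respectsIso
  refine ⟨?_, ?_⟩
  · rw [MorphismProperty.cancel_left_of_respectsIso @Flat]
    exact MorphismProperty.of_isPullback (P := @Flat) sq3 hflat
  · rw [MorphismProperty.cancel_left_of_respectsIso @GeometricallyIntegral]
    exact MorphismProperty.of_isPullback (P := @GeometricallyIntegral) sq3 hgi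

end Groth.Agent.GenInt
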