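import Mathlib
import Groth.Agent.GenInt.Spread

/-!
# A finite flat cover after which the components have geometrically integral fibres
-/

set_option autoImplicit false
set_option backward.isDefEq.respectTransparency false
set_option backward.isDefEq.respectTransparency.types false
set_option maxHeartbeats 1000000
universe u

open AlgebraicGeometry CategoryTheory CategoryTheory.Limits

namespace Groth.Agent.GenInt

/-- A finite extension of the fraction field of a domain is the fraction field of a finite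
algebra inside it. -/
theorem exists_finite_model (A : Type u) [CommRing A] [IsDomain A] (K : Type u) [Field K] [Algebra A K]
    [IsFractionRing A K] (L : Type u) [Field L] [Algebra K L] [FiniteDimensional K L]
    [Algebra A L] [IsScalarTower A K L] :
    ∃ (B : Subalgebra A L), Module.Finite A B ∧ ∀ y : L, ∃ x s : B, (s : L) ≠ 0 ∧ y * s = x := by
  classical
  let bas := Module.finBasis K L
  have hd : ∀ i, ∃ d : A, d ≠ 0 ∧ IsIntegral A (algebraMap A L d * bas i) := by
    intro i
    obtain ⟨⟨d, hd⟩, hint⟩ := IsIntegral.exists_multiple_integral_of_isLocalization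
      (nonZeroDivisors A) (bas i) (Algebra.IsIntegral.isIntegral (R := K) _)
    exact ⟨d, nonZeroDivisors.ne_zero hd, by simpa [Submonoid.smul_def, Algebra.smul_def] using hint⟩
  choose d hd0 hint using hd
  let G : Set L := Set.range fun i => algebraMap A L (d i) * bas i
  refine ⟨Algebra.adjoin A G, ⟨(Submodule.fg_top _).mpr
    (fg_adjoin_of_finite (Set.finite_range _) (by rintro _ ⟨i, rfl⟩; exact hint i))⟩, fun y => ?_⟩
  have hmem : ∀ a : A, algebraMap A L a ∈ Algebra.adjoin A G := fun a => Subalgebra.algebraMap_mem _ a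
  have hAL : Function.Injective (algebraMap A L) := by
    rw [IsScalarTower.algebraMap_eq A K L, RingHom.coe_comp]
    exact (RingHom.injective _).comp (IsFractionRing.injective A K : Function.Injective (algebraMap A K))
  have hy : y ∈ Submodule.span K (Set.range bas) := bas.mem_span y
  induction hy using Submodule.span_induction with
  | mem x hx =>
    obtain ⟨i, rfl⟩ := hx
    refine ⟨⟨_, Algebra.subset_adjoin ⟨i, rfl⟩⟩, ⟨_, hmem (d i)⟩, ?_, mul_comm _ _⟩
    exact fun h => hd0 i (hAL (by rw [map_zero]; exact h))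
  | zero => exact ⟨0, 1, by simp, by simp⟩
  | add x z _ _ hx hz =>
    obtain ⟨x₁, s₁, h₁, e₁⟩ := hx
    obtain ⟨x₂, s₂, h₂, e₂⟩ := hz
    refine ⟨x₁ * s₂ + x₂ * s₁, s₁ * s₂, by simp [h₁, h₂], ?_⟩
    simp only [Subalgebra.coe_add, Subalgebra.coe_mul, ← e₁, ← e₂]; ring
  | smul c x _ hx =>
    obtain ⟨x₁, s₁, h₁, e₁⟩ := hx
    obtain ⟨a, b, hb, rfl⟩ := IsFractionRing.div_surjective A c
    have hb' : algebraMap A L b ≠ 0 := fun h => nonZeroDivisors.ne_zero hb (hAL (by rw [map_zero]; exact h))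
    refine ⟨⟨_, hmem a⟩ * x₁, ⟨_, hmem b⟩ * s₁, by simp [h₁, hb'], ?_⟩
    simp only [Subalgebra.coe_mul, Algebra.smul_def, map_div₀, ← IsScalarTower.algebraMap_apply, ← e₁]
    field_simp

theorem exists_cover {X S : Scheme.{u}} [IsNoetherian S] [IsIntegral S]
    (f : X ⟶ S) [LocallyOfFiniteType f] [QuasiCompact f] :
    ∃ (V : S.Opens) (S' : Scheme.{u}) (h : S' ⟶ (V : Scheme.{u})), (V : Set S).Nonempty ∧ IsIntegral S' ∧
      IsFinite h ∧ Flat h ∧ Surjective h ∧
      ∀ (Z : Scheme.{u}) (i : Z ⟶ pullback f (h ≫ V.ι)) [IsClosedImmersion i] [IsReduced Z],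
        Set.range i.base ∈ irreducibleComponents ↥(pullback f (h ≫ V.ι)) →
          Flat (i ≫ pullback.snd f (h ≫ V.ι)) ∧ GeometricallyIntegral (i ≫ pullback.snd f (h ≫ V.ι)) := by
  classical
  obtain ⟨_, ⟨U, hU, rfl⟩, hy, -⟩ := S.isBasis_affineOpens.exists_subset_of_mem_open
    (Set.mem_univ (genericPoint ↥S)) isOpen_univ
  haveI : Nonempty ↥(Scheme.Opens.toScheme U) := ⟨⟨_, hy⟩⟩
  let A := Γ(S, U)
  haveI : IsDomain A := inferInstanceAs (IsDomain Γ(S, U))
  haveI : IsNoetherianRing A := IsLocallyNoetherian.component_noetherian ⟨U, hU⟩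
  let K := FractionRing A
  let t : Spec (CommRingCat.of K) ⟶ S :=
    Spec.map (CommRingCat.ofHom (algebraMap A K)) ≫ IsAffineOpen.fromSpec hU
  letI : (pullback f t).Over (Spec (CommRingCat.of K)) := ⟨pullback.snd f t⟩
  haveI : LocallyOfFiniteType (pullback f t ↘ Spec (CommRingCat.of K)) :=
    inferInstanceAs (LocallyOfFiniteType (pullback.snd f t))
  haveI : CompactSpace ↥(pullback f t) := QuasiCompact.compactSpace_of_compactSpace (pullback.snd f t)
  obtain ⟨L, _, _, _, hL⟩ := exists_finite_extension K (pullback f t)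
  letI : Algebra A L := ((algebraMap K L).comp (algebraMap A K)).toAlgebra
  haveI : IsScalarTower A K L := IsScalarTower.of_algebraMap_eq fun _ => rfl
  obtain ⟨B, hBfin, hBfrac⟩ := exists_finite_model A K L
  let g₀ : Spec (CommRingCat.of B) ⟶ Spec (CommRingCat.of A) :=
    Spec.map (CommRingCat.ofHom (algebraMap A B))
  haveI : IsFinite g₀ := (IsFinite.SpecMap_iff _).mpr (RingHom.finite_algebraMap.mpr hBfin)
  have hinj : Function.Injective (algebraMap A B) := fun a b hab => by
    have h := congrArg (fun z : B => (z : L)) hab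
    exact (IsFractionRing.injective A K : Function.Injective (algebraMap A K))
      ((algebraMap K L).injective h)
  haveI : Surjective g₀ := ⟨fun P => by
    haveI : Algebra.IsIntegral A B := inferInstance
    haveI : FaithfulSMul A B := (faithfulSMul_iff_algebraMap_injective A B).mpr hinj
    obtain ⟨Q, hQ⟩ := Algebra.IsIntegral.comap_surjective (R := A) (S := B) P
    exact ⟨Q, hQ⟩⟩
  haveI : IsNoetherianRing B := IsNoetherianRing.of_finite A B
  haveI : IsNoetherian (Spec (CommRingCat.of B)) := {}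
  let j : Spec (CommRingCat.of A) ⟶ S := IsAffineOpen.fromSpec hU
  let q : Spec (CommRingCat.of L) ⟶ Spec (CommRingCat.of B) := Spec.map (CommRingCat.ofHom B.val.toRingHom)
  haveI : IsPreimmersion q := by
    refine IsPreimmersion.mk_SpecMap (Topology.IsEmbedding.of_subsingleton _) ?_
    rw [RingHom.surjectiveOnStalks_iff_forall_ideal]
    intro I hI y
    obtain ⟨x, s, hs, e⟩ := hBfrac y
    have hu : IsUnit (s : L) := isUnit_iff_ne_zero.mpr hs
    refine ⟨x, s, 1, fun h => hI ((Ideal.eq_top_iff_one I).mpr h), fun h => hI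
      (Ideal.eq_top_of_isUnit_mem I h hu), ?_⟩
    simp only [CommRingCat.hom_ofHom, one_mul]
    show (s : L) * y = (x : L)
    rw [← e, mul_comm]
  have hq : q (IsLocalRing.closedPoint L) = genericPoint ↥(Spec (CommRingCat.of B)) := by
    rw [genericPoint_eq_bot_of_affine (CommRingCat.of B)]
    refine PrimeSpectrum.ext ?_
    show Ideal.comap B.val.toRingHom (IsLocalRing.maximalIdeal L) = ⊥
    rw [IsLocalRing.isField_iff_maximalIdeal_eq.mp (Field.toIsField L)]
    exact (RingHom.injective_iff_ker_eq_bot _).mp Subtype.coe_injective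
  let p := pullback.snd f (g₀ ≫ j)
  have hcomps : CompsGInt (p.fiberToSpecResidueField (genericPoint ↥(Spec (CommRingCat.of B)))) := by
    rw [← hq]
    have hsq : q ≫ g₀ ≫ j = Spec.map (CommRingCat.ofHom (algebraMap K L)) ≫ t := by
      simp only [q, g₀, j, t, ← Category.assoc, ← Spec.map_comp, ← CommRingCat.ofHom_comp]
      rfl
    have h2 : IsPullback (Curv2.bcFst K (pullback f t) L ≫ pullback.fst f t)
        (Curv2.bcSnd K (pullback f t) L) f (q ≫ g₀ ≫ j) := by
      rw [hsq]
      exact (IsPullback.of_hasPullback (pullback.snd f t)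
        (Spec.map (CommRingCat.ofHom (algebraMap K L)))).paste_horiz (IsPullback.of_hasPullback f t)
    let a : Curv2.bc K (pullback f t) L ⟶ pullback f (g₀ ≫ j) :=
      pullback.lift (Curv2.bcFst K (pullback f t) L ≫ pullback.fst f t)
        (Curv2.bcSnd K (pullback f t) L ≫ q) (by rw [h2.w, Category.assoc])
    refine compsGInt_fiber p q a _ ?_ hL
    refine IsPullback.of_right ?_ (pullback.lift_snd _ _ _) (IsPullback.of_hasPullback f (g₀ ≫ j))
    rw [pullback.lift_fst]
    exact h2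
  obtain ⟨O, hO, hgood⟩ := exists_good_open p hcomps
  let C : Set ↥(Spec (CommRingCat.of A)) := g₀ '' (O : Set ↥(Spec (CommRingCat.of B)))ᶜ
  have hC : IsClosed C := g₀.isClosedMap _ O.2.isClosed_compl
  have hηC : (⟨⊥, Ideal.isPrime_bot⟩ : PrimeSpectrum A) ∉ C := by
    rintro ⟨Q, hQ, hQ'⟩
    have hb : Q.asIdeal = ⊥ := by
      have h1 : Ideal.comap (algebraMap A B) Q.asIdeal = ⊥ := congrArg PrimeSpectrum.asIdeal hQ'
      exact Ideal.eq_bot_of_comap_eq_bot h1
    refine hQ ?_
    have : Q = genericPoint ↥(Spec (CommRingCat.of B)) := by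
      rw [genericPoint_eq_bot_of_affine (CommRingCat.of B)]
      exact PrimeSpectrum.ext hb
    rw [this]
    exact ((genericPoint_spec _).mem_open_set_iff O.2).2 (by simpa using hO)
  obtain ⟨W, hW, hWle, hWflat, -⟩ := FlatMisc.exists_flat_open g₀ ⟨Cᶜ, hC.isOpen_compl⟩ ⟨_, hηC⟩
  let j' : (W : Scheme.{u}) ⟶ S := W.ι ≫ j
  let h : (g₀ ⁻¹ᵁ W).toScheme ⟶ (j'.opensRange : Scheme.{u}) := (g₀ ∣_ W) ≫ j'.isoOpensRange.hom
  have hh : h ≫ j'.opensRange.ι = (g₀ ⁻¹ᵁ W).ι ≫ g₀ ≫ j := by
    simp [h, j', morphismRestrict_ι_assoc]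
  obtain ⟨w, hw⟩ := hW
  obtain ⟨b, hb⟩ := g₀.surjective w
  haveI : Nonempty ↥(g₀ ⁻¹ᵁ W).toScheme := ⟨⟨b, show g₀ b ∈ W from hb ▸ hw⟩⟩
  haveI : IsFinite (g₀ ∣_ W) := IsZariskiLocalAtTarget.restrict (P := @IsFinite) inferInstance W
  haveI : Surjective (g₀ ∣_ W) := IsZariskiLocalAtTarget.restrict (P := @Surjective) inferInstance W
  refine ⟨j'.opensRange, (g₀ ⁻¹ᵁ W).toScheme, h, ⟨j' ⟨w, hw⟩, _, rfl⟩,
    isIntegral_of_isOpenImmersion (g₀ ⁻¹ᵁ W).ι, inferInstance, inferInstance, inferInstance,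
    fun Z i _ _ hi => ?_⟩
  let a : pullback f (h ≫ j'.opensRange.ι) ⟶ pullback f (g₀ ≫ j) :=
    pullback.lift (pullback.fst _ _) (pullback.snd _ _ ≫ (g₀ ⁻¹ᵁ W).ι)
      (by rw [pullback.condition, hh, Category.assoc])
  refine hgood (g₀ ⁻¹ᵁ W).ι a (pullback.snd f (h ≫ j'.opensRange.ι)) ?_ ?_ Z i hi
  · refine IsPullback.of_right ?_ (pullback.lift_snd _ _ _) (IsPullback.of_hasPullback f (g₀ ≫ j))
    rw [pullback.lift_fst, ← hh]
    exact IsPullback.of_hasPullback _ _
  · rw [Scheme.Opens.range_ι]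
    intro z hz
    by_contra hzO
    exact hWle hz ⟨z, hzO, rfl⟩

end Groth.Agent.GenInt
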